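import Groth.Agent.ConstQuot10.FinQuot
import Groth.Agent.FinQuotSp10.BaseChange

/-!
# Flat base change of `[Spec A/G] → Spec A^G`
-/

set_option autoImplicit false
set_option backward.isDefEq.respectTransparency false
set_option backward.isDefEq.respectTransparency.types false

universe u

open CategoryTheory CategoryTheory.Limits MonoidalCategory CartesianMonoidalCategory MonObj AlgebraicGeometry AlgSp

namespace Groth.Agent.ConstQuot10

open Groth.Agent.FinQuotSp10

variable (R : Type u) [CommRing R] (A : Type u) [CommRing A] [Algebra R A]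
variable (G : Type u) [Group G] [Fintype G] [DecidableEq G] [MulSemiringAction G A] [SMulCommClass G R A]

/-- Invariant maps from a flat affine base change of `Spec A` descend. -/
theorem existsUnique_desc_bc [Algebra.FiniteType R A] {Y' : Over (Spec (CommRingCat.of R))} [IsAffine Y'.left]
    (g : Y' ⟶ ConstAct.specInv R A G) [Flat g.left] {N : AlgSp.Sp (Spec (CommRingCat.of R))} (hN : IsAlgSpace N)
    (ψ : (yon _).obj (bcX (X := ConstAct.X R A) (ConstAct.quot R A G) g) ⟶ N)
    (h : ∀ (T : Over (Spec (CommRingCat.of R))) (z z' : T ⟶ bcX (X := ConstAct.X R A) (ConstAct.quot R A G) g),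
      z ≫ bcMap (X := ConstAct.X R A) (ConstAct.quot R A G) g = z' ≫ bcMap (X := ConstAct.X R A) (ConstAct.quot R A G) g →
      (∀ (c : bcX (X := ConstAct.X R A) (ConstAct.quot R A G) g ⟶ ConstAct.X R A),
        c.left = pullback.snd g.left (ConstAct.quot R A G).left →
        ∃ gm : T ⟶ ConstAct.GR R G, lift gm (z' ≫ c) ≫ (ConstAct.gaction R A G).act = z ≫ c) →
        (yon _).map z ≫ ψ = (yon _).map z' ≫ ψ) :
    ∃! χ : (yon _).obj Y' ⟶ N, (yon _).map (bcMap (X := ConstAct.X R A) (ConstAct.quot R A G) g) ≫ χ = ψ := by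
  have hf := isFinQuot R A G
  refine existsUnique_factor (hf.baseChange g) hN ψ fun g0 => ?_
  have e := h _ (bcAct hf g g0) (𝟙 _) (by
      rw [Category.id_comp]; exact Over.OverMorphism.ext (act_fst hf g.left g0))
    (fun c hc => ⟨c ≫ cpt R A G g0, by
      rw [Category.id_comp, show lift (c ≫ cpt R A G g0) c = c ≫ lift (cpt R A G g0) (𝟙 _) by
        rw [comp_lift, Category.comp_id], Category.assoc, lift_cpt_act]
      refine Over.OverMorphism.ext ?_
      change c.left ≫ (lact R A G g0).left = act hf g.left g0 ≫ c.left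
      rw [hc, act_snd]⟩)
  rw [e, CategoryTheory.Functor.map_id, Category.id_comp]

end Groth.Agent.ConstQuot10
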