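import Groth.Prelude.Def_ConstAct2
import Groth.Agent.QuotFun10.UnitIso
import Mathlib.RingTheory.Finiteness.Cardinality

/-!
# The quotient of an affine scheme by a finite constant group
-/

set_option backward.isDefEq.respectTransparency false
set_option backward.isDefEq.respectTransparency.types false

universe u

open CategoryTheory CategoryTheory.Limits MonoidalCategory CartesianMonoidalCategory MonObj AlgebraicGeometry
open scoped TensorProduct

namespace Groth.Agent.ConstQuot10

variable (R : Type u) [CommRing R] (A : Type u) [CommRing A] [Algebra R A]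
variable (G : Type u) [Group G] [Fintype G] [DecidableEq G] [MulSemiringAction G A] [SMulCommClass G R A]

omit [Group G] [DecidableEq G] in
theorem flat_GR : Flat (Over.mk (Spec.map (CommRingCat.ofHom (algebraMap R (ConstGrp.F R G))))).hom := by
  show Flat (Spec.map (CommRingCat.ofHom (algebraMap R (ConstGrp.F R G))))
  refine (HasRingHomProperty.Spec_iff (P := @Flat)).2 ?_
  rw [CommRingCat.hom_ofHom, RingHom.flat_algebraMap_iff]
  infer_instance

omit [Group G] [DecidableEq G] in
theorem lfp_GR :
    LocallyOfFinitePresentation (Over.mk (Spec.map (CommRingCat.ofHom (algebraMap R (ConstGrp.F R G))))).hom := by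
  show LocallyOfFinitePresentation (Spec.map (CommRingCat.ofHom (algebraMap R (ConstGrp.F R G))))
  refine (HasRingHomProperty.Spec_iff (P := @LocallyOfFinitePresentation)).2 ?_
  rw [CommRingCat.hom_ofHom, RingHom.finitePresentation_algebraMap]
  have : Module.FinitePresentation R (ConstGrp.F R G) := Module.finitePresentation_of_projective R _
  infer_instance

theorem isAffine_tensor_sp (B C : Type u) [CommRing B] [Algebra R B] [CommRing C] [Algebra R C] :
    IsAffine (CoactBr.sp R B ⊗ CoactBr.sp R C).left := by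
  show IsAffine (pullback (Spec.map (CommRingCat.ofHom (algebraMap R B))) (Spec.map (CommRingCat.ofHom (algebraMap R C))))
  exact IsAffine.of_isIso (pullbackSpecIso R B C).hom

theorem epi_lift_include (B C : Type u) [CommRing B] [Algebra R B] [CommRing C] [Algebra R C] :
    Epi (lift (CoactBr.pt (Algebra.TensorProduct.includeLeft : B →ₐ[R] B ⊗[R] C))
      (CoactBr.pt (Algebra.TensorProduct.includeRight : C →ₐ[R] B ⊗[R] C))) := by
  let _ : (algSpec (CommRingCat.of R)).Braided := braidedAlgSpec
  have e := CoactBr.lift_pt_pt (Algebra.TensorProduct.includeLeft : B →ₐ[R] B ⊗[R] C)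
    (Algebra.TensorProduct.includeRight : C →ₐ[R] B ⊗[R] C)
  rw [show Algebra.TensorProduct.lift (Algebra.TensorProduct.includeLeft : B →ₐ[R] B ⊗[R] C)
      (Algebra.TensorProduct.includeRight : C →ₐ[R] B ⊗[R] C) (fun _ _ => .all _ _) = AlgHom.id R _ from
    Algebra.TensorProduct.ext' fun b c => by simp, CoactBr.pt_id] at e
  refine ⟨fun a b h => ?_⟩
  rw [← cancel_epi (Functor.LaxMonoidal.μ (algSpec (CommRingCat.of R)) (Opposite.op (.of R B)) (Opposite.op (.of R C)))] at h
  simp only [← Category.assoc] at h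
  rwa [show Functor.LaxMonoidal.μ (algSpec (CommRingCat.of R)) (Opposite.op (.of R B)) (Opposite.op (.of R C)) ≫
      lift (CoactBr.pt (Algebra.TensorProduct.includeLeft : B →ₐ[R] B ⊗[R] C))
        (CoactBr.pt (Algebra.TensorProduct.includeRight : C →ₐ[R] B ⊗[R] C)) = 𝟙 _ from by
    refine (cancel_mono (Functor.LaxMonoidal.μ (algSpec (CommRingCat.of R)) (Opposite.op (.of R B)) (Opposite.op (.of R C)))).1 ?_
    rw [Category.assoc, e]
    exact (Category.comp_id _).trans (Category.id_comp _).symm, Category.id_comp, Category.id_comp] at h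

theorem quot_eq_pt : ConstAct.quot R A G = CoactBr.pt (ConstAct.inv R A G).val := Over.OverMorphism.ext rfl

theorem gaction_quot :
    (ConstAct.gaction R A G).act ≫ ConstAct.quot R A G =
      snd (ConstAct.GR R G) (ConstAct.X R A) ≫ ConstAct.quot R A G := by
  let _ := ConstAct.comod R A G
  have _ := ConstAct.isCoactAlg R A G
  rw [ConstAct.gaction_eq]
  refine (CoactBr.action_act_comp_eq_iff (ConstAct.quot R A G)).2 ?_
  have := epi_lift_include R A (ConstGrp.F R G)
  rw [← cancel_epi (lift (CoactBr.pt (Algebra.TensorProduct.includeLeft : A →ₐ[R] A ⊗[R] ConstGrp.F R G))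
      (CoactBr.pt (Algebra.TensorProduct.includeRight : ConstGrp.F R G →ₐ[R] A ⊗[R] ConstGrp.F R G))),
    ← Category.assoc, CoactBr.lift_pt_ract, ← Category.assoc, lift_fst, quot_eq_pt, ← CoactBr.pt_comp,
    ← CoactBr.pt_comp]
  congr 1
  apply AlgHom.ext
  rintro ⟨a, ha⟩
  change Algebra.TensorProduct.lift (Algebra.TensorProduct.includeLeft : A →ₐ[R] A ⊗[R] ConstGrp.F R G)
      (Algebra.TensorProduct.includeRight : ConstGrp.F R G →ₐ[R] A ⊗[R] ConstGrp.F R G) (fun _ _ => .all _ _)
      (ConstAct.coactLin R A G a) = a ⊗ₜ[R] 1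
  rw [ConstAct.coactLin_apply, map_sum]
  simp only [Algebra.TensorProduct.lift_tmul, Algebra.TensorProduct.includeLeft_apply,
    Algebra.TensorProduct.includeRight_apply, Algebra.TensorProduct.tmul_mul_tmul, mul_one, one_mul]
  simp only [show ∀ g : G, g • a = a from ha, ← TensorProduct.tmul_sum]
  exact congrArg₂ (fun x y => x ⊗ₜ[R] y) (_root_.mul_one a)
    ((Finset.sum_congr rfl fun g _ => _root_.one_mul _).trans ConstGrp.sum_e)

theorem invExact :
    Groth.Agent.AlgSpDec.InvExact (ConstAct.gaction R A G).act.left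
      (snd (ConstAct.GR R G) (ConstAct.X R A)).left (ConstAct.quot R A G).left := by
  have hnat : ∀ {B C : Type u} [CommRing B] [CommRing C] (φ : B →+* C) (b : B),
      (Spec.map (CommRingCat.ofHom φ)).appTop ((Scheme.ΓSpecIso (CommRingCat.of B)).inv b) =
        (Scheme.ΓSpecIso (CommRingCat.of C)).inv (φ b) := fun φ b =>
    (congr($(Scheme.ΓSpecIso_inv_naturality (CommRingCat.ofHom φ)) b)).symm
  have hsurj : ∀ {B : Type u} [CommRing B] (z : Γ(Spec (CommRingCat.of B), ⊤)),
      ∃ b : B, (Scheme.ΓSpecIso (CommRingCat.of B)).inv b = z := fun z =>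
    (Scheme.ΓSpecIso (CommRingCat.of _)).commRingCatIsoToRingEquiv.symm.surjective z
  have hinj : ∀ {B : Type u} [CommRing B], Function.Injective (Scheme.ΓSpecIso (CommRingCat.of B)).inv.hom := fun {B} _ =>
    (Scheme.ΓSpecIso (CommRingCat.of B)).commRingCatIsoToRingEquiv.symm.injective
  refine ⟨fun z z' h => ?_, fun z hz => ?_⟩
  · obtain ⟨b, rfl⟩ := hsurj (B := ConstAct.inv R A G) z
    obtain ⟨b', rfl⟩ := hsurj (B := ConstAct.inv R A G) z'
    have h' : (Spec.map (CommRingCat.ofHom (ConstAct.inv R A G).val.toRingHom)).appTop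
          ((Scheme.ΓSpecIso (CommRingCat.of (ConstAct.inv R A G))).inv b) =
        (Spec.map (CommRingCat.ofHom (ConstAct.inv R A G).val.toRingHom)).appTop
          ((Scheme.ΓSpecIso (CommRingCat.of (ConstAct.inv R A G))).inv b') := h
    rw [hnat, hnat] at h'
    exact congrArg _ (Subtype.ext (hinj h'))
  · obtain ⟨a, rfl⟩ := hsurj (B := A) z
    have ha : a ∈ ConstAct.inv R A G := by
      intro g
      have hg := ConstAct.gaction_constPt R A G g⁻¹ (AlgHom.id R A)
      rw [CoactBr.pt_id, inv_inv] at hg
      have h := congrArg (fun k => (lift (CoactBr.pt (ConstAct.constPt R G (K := A) g⁻¹)) (𝟙 (ConstAct.X R A))).left.appTop k) hz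
      simp only [← CommRingCat.comp_apply, ← Scheme.Hom.comp_appTop, ← Over.comp_left, hg, lift_snd,
        Category.id_comp] at h
      have h' : (Spec.map (CommRingCat.ofHom (MulSemiringAction.toRingHom G A g))).appTop
          ((Scheme.ΓSpecIso (CommRingCat.of A)).inv a) =
          (𝟙 (Spec (CommRingCat.of A)) : _ ⟶ _).appTop ((Scheme.ΓSpecIso (CommRingCat.of A)).inv a) := h
      rw [hnat, Scheme.Hom.id_appTop] at h'
      exact hinj h'
    refine ⟨(Scheme.ΓSpecIso (CommRingCat.of (ConstAct.inv R A G))).inv ⟨a, ha⟩, ?_⟩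
    exact hnat (ConstAct.inv R A G).val.toRingHom ⟨a, ha⟩

end Groth.Agent.ConstQuot10
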