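import Groth.Agent.ConstQuot10.Basic
import Groth.Agent.FinQuotSp10.Affine
import Groth.Agent.FinQuotSp10.Coarse
import Groth.Agent.PolLib.Points
import Mathlib.RingTheory.IntegralClosure.Algebra.Basic

/-!
# `Spec A → Spec A^G` as a finite quotient
-/

set_option autoImplicit false
set_option backward.isDefEq.respectTransparency false
set_option backward.isDefEq.respectTransparency.types false

universe u

open CategoryTheory CategoryTheory.Limits MonoidalCategory CartesianMonoidalCategory MonObj AlgebraicGeometry AlgSp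

namespace Groth.Agent.ConstQuot10

open Groth.Agent.FinQuotSp10

variable (R : Type u) [CommRing R] (A : Type u) [CommRing A] [Algebra R A]
variable (G : Type u) [Group G] [Fintype G] [DecidableEq G] [MulSemiringAction G A] [SMulCommClass G R A]

omit [Fintype G] [DecidableEq G] in
theorem smulComm_inv : SMulCommClass G ↥(ConstAct.inv R A G) A := ⟨fun g b a => by
  show g • ((b : A) * a) = (b : A) * g • a
  rw [smul_mul', b.2 g]⟩

omit [Fintype G] [DecidableEq G] in
theorem isInvariant_inv : Algebra.IsInvariant ↥(ConstAct.inv R A G) A G := ⟨fun a ha => ⟨⟨a, ha⟩, rfl⟩⟩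

omit [DecidableEq G] in
theorem finite_inv [Algebra.FiniteType R A] : Module.Finite ↥(ConstAct.inv R A G) A := by
  have := smulComm_inv R A G
  have := isInvariant_inv R A G
  have : Algebra.IsIntegral ↥(ConstAct.inv R A G) A := Algebra.IsInvariant.isIntegral _ A G
  have : Algebra.FiniteType ↥(ConstAct.inv R A G) A := .of_restrictScalars_finiteType R _ A
  exact Algebra.IsIntegral.finite

omit [Fintype G] [DecidableEq G] in
theorem faithful_inv : FaithfulSMul ↥(ConstAct.inv R A G) A :=
  (faithfulSMul_iff_algebraMap_injective _ A).2 Subtype.val_injective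

/-- The left action on `Spec A`. -/
noncomputable def lact (g : G) : ConstAct.X R A ⟶ ConstAct.X R A := ConstAct.act R A G g⁻¹

/-- The quotient of an algebra of finite type by a finite group is a finite quotient. -/
theorem isFinQuot [Algebra.FiniteType R A] :
    IsFinQuot (X := ConstAct.X R A) (ConstAct.quot R A G) (lact R A G) := by
  have := smulComm_inv R A G
  have := isInvariant_inv R A G
  have := finite_inv R A G
  have := faithful_inv R A G
  have h := isFinQuot_spec (B := ↥(ConstAct.inv R A G)) (A := A) (G := G)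
    (Spec.map (CommRingCat.ofHom (algebraMap R A))) (Spec.map (CommRingCat.ofHom (algebraMap R ↥(ConstAct.inv R A G))))
    (by rw [← Spec.map_comp]; rfl)
  exact h

/-- The constant point. -/
noncomputable def cpt (g : G) : ConstAct.X R A ⟶ ConstAct.GR R G := CoactBr.pt (ConstAct.constPt R G (K := A) g)

theorem lift_cpt_act (g : G) :
    lift (cpt R A G g) (𝟙 (ConstAct.X R A)) ≫ (ConstAct.gaction R A G).act = lact R A G g := by
  have h := ConstAct.gaction_constPt R A G g (AlgHom.id R A)
  rw [CoactBr.pt_id] at h
  exact h.trans (Category.id_comp _)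

theorem lact_invariant {N : AlgSp.Sp (Spec (CommRingCat.of R))} (ψ : (yon _).obj (ConstAct.X R A) ⟶ N)
    (h : (yon _).map (ConstAct.gaction R A G).act ≫ ψ = (yon _).map (snd (ConstAct.GR R G) (ConstAct.X R A)) ≫ ψ)
    (g : G) : (yon _).map (lact R A G g) ≫ ψ = ψ := by
  rw [← lift_cpt_act, Functor.map_comp, Category.assoc, h, yon_cancel (lift_snd _ _), CategoryTheory.Functor.map_id,
    Category.id_comp]

/-- Invariant maps to algebraic spaces factor uniquely through `Spec A^G`. -/
theorem existsUnique_desc [Algebra.FiniteType R A] {N : AlgSp.Sp (Spec (CommRingCat.of R))} (hN : IsAlgSpace N)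
    (ψ : (yon _).obj (ConstAct.X R A) ⟶ N)
    (h : (yon _).map (ConstAct.gaction R A G).act ≫ ψ = (yon _).map (snd (ConstAct.GR R G) (ConstAct.X R A)) ≫ ψ) :
    ∃! χ : (yon _).obj (ConstAct.specInv R A G) ⟶ N, (yon _).map (ConstAct.quot R A G) ≫ χ = ψ :=
  existsUnique_factor (isFinQuot R A G) hN ψ (lact_invariant R A G ψ h)

/-- Geometric points of `Spec A^G` are orbits of geometric points. -/
theorem geomOrbits [Algebra.FiniteType R A] (Ω : Type u) [Field Ω] [IsAlgClosed Ω]
    (t : Spec (CommRingCat.of Ω) ⟶ Spec (CommRingCat.of R)) :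
    (∀ y : Over.mk t ⟶ ConstAct.specInv R A G, ∃ x : Over.mk t ⟶ ConstAct.X R A, x ≫ ConstAct.quot R A G = y) ∧
      (∀ x x' : Over.mk t ⟶ ConstAct.X R A, x ≫ ConstAct.quot R A G = x' ≫ ConstAct.quot R A G →
        ∃ g : Over.mk t ⟶ ConstAct.GR R G, lift g x' ≫ (ConstAct.gaction R A G).act = x) := by
  have hf := isFinQuot R A G
  have : IsAffine (ConstAct.specA R A).left := inferInstanceAs (IsAffine (Spec _))
  have : IsAffine (ConstAct.specInv R A G).left := inferInstanceAs (IsAffine (Spec _))
  have : IsFinite (ConstAct.quot R A G).left := hf.finite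
  refine ⟨fun y => ?_, fun x x' hxx' => ?_⟩
  · have := surjective_of_injective (ConstAct.quot R A G).left hf.injective
    obtain ⟨z, hz⟩ := (ConstAct.quot R A G).left.surjective (y.left (IsLocalRing.closedPoint Ω))
    obtain ⟨x, hx, -⟩ := exists_pt_over (ConstAct.quot R A G).left y.left z hz
    exact ⟨Over.homMk x (by
        show x ≫ (ConstAct.specA R A).hom = t
        rw [← Over.w (ConstAct.quot R A G), reassoc_of% hx]; exact Over.w y),
      Over.OverMorphism.ext hx⟩
  · obtain ⟨g, hg⟩ := hf.orbit Ω x'.left x.left (congrArg CommaMorphism.left hxx').symm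
    refine ⟨x' ≫ cpt R A G g, ?_⟩
    rw [show lift (x' ≫ cpt R A G g) x' = x' ≫ lift (cpt R A G g) (𝟙 _) by
      rw [comp_lift, Category.comp_id], Category.assoc, lift_cpt_act]
    exact Over.OverMorphism.ext hg

omit [DecidableEq G] in
/-- Every point of the invariants with values in an algebraically closed field extends, uniquely up to the group. -/
theorem algHom_orbits (Ω : Type u) [Field Ω] [IsAlgClosed Ω] [Algebra R Ω] :
    (∀ y : ↥(ConstAct.inv R A G) →ₐ[R] Ω, ∃ x : A →ₐ[R] Ω, x.comp (ConstAct.inv R A G).val = y) ∧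
      (∀ x x' : A →ₐ[R] Ω, x.comp (ConstAct.inv R A G).val = x'.comp (ConstAct.inv R A G).val →
        ∃ g : G, x' = x.comp (MulSemiringAction.toAlgEquiv R A g : A →ₐ[R] A)) := by
  refine ⟨fun y => ?_, fun x x' h => ?_⟩
  · have := smulComm_inv R A G
    have := isInvariant_inv R A G
    have : Algebra.IsIntegral ↥(ConstAct.inv R A G) A := Algebra.IsInvariant.isIntegral _ A G
    obtain ⟨g, hg⟩ := Groth.Agent.PolLib.exists_ringHom_ext_of_isIntegral (T := A) y.toRingHom (fun b hb => by
      have : b = 0 := Subtype.ext hb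
      rw [this]; exact map_zero y.toRingHom)
    refine ⟨{ g with commutes' := fun r => ?_ }, AlgHom.ext fun b => RingHom.congr_fun hg b⟩
    exact (RingHom.congr_fun hg (algebraMap R _ r)).trans (y.commutes r)
  · obtain ⟨g, hg⟩ := exists_smul_eq (G := G) x.toRingHom x'.toRingHom fun a ha =>
      AlgHom.congr_fun h ⟨a, ha⟩
    exact ⟨g, AlgHom.ext hg⟩

end Groth.Agent.ConstQuot10
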